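import Cfsg.Agent.Helper19.J2G24.Data

/-! Tables of the inverses of the two generators of the point stabiliser `U₃(3)` of `J₂` on 100
points (generated). -/

set_option autoImplicit false
set_option linter.all false

namespace Cfsg.Agent.Helper19.J2U3


def sa0i : ℕ := 68392740631420467861894694256633622074070627301330511309090751268875755660704170760854840550638831983462557043204629717234713653076090535885146194151134773741178232605759387146478952226711656139327177827022132718090491724737374434466030755381521389024533835386717293825658537063391829675141887071255816641164391979781717052349309200082367424501966866045861139422802127966127397631154069274945003778329517518313753334850620535114314621981612321344212931519693390245515191640745576420260939555959611920249977005757427745832580508916509482313489918573448323730282315980768352956482558269994618377939036578364758695545031726899107758087841310685818268698280892115779752026528899593783348961111987455870341559729020055294989530394469282808649329181186183245553279960037880492253936407367747367132300695027437813057120232853536883298283710203197698692975332713850824229419007109300507588721568905211764665170899563773951423043382185185315661556844160704153824685540297575384940644024694085020873227612681428328111292831748838639350540922444227947401544646888732428220462645222401805721694330739036573652116046684784996579985974469632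
def sa1i : ℕ := 71730027319044814736218146894028331281351047900369808411719859311735850416323716084640613422978742817618220249515915563555412943226462466537102907489802070647581748794129826788385693595370671502424851060220948712903328137822779443176879797928725166488560857220302139864427996618049912774169963563611133013143861942982937342184931449201469578608833710007783999611353176052600801075742786015588917570323421983893015189728205570501177341081435357904298882492891031148774099215172968876700153940659416969948024456073253761770660336793659640521432381249809676068689211777849334556897999042022083913362475993559799739828380190603745970285899444017807569885015858822877617650327962973950622442176033313057674848659290947531035315022105156315867676107960939702401881245457051346891061786881528000862130941117301692435236850548485300906874683533284257772044042991617105972566252719297266208101999459896805016115703228995087265875965856838243776866927786555658373762331821107069422722162409779853853276006768227240579918538287021995450259134637335866366769540893892050637763164433748839720211293068056352175669365884481706664795780246016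

end Cfsg.Agent.Helper19.J2U3
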