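import Cfsg.Agent.Helper19.J2G24.Sub
import Cfsg.Agent.Helper19.J2G24.Main
import Cfsg.Agent.Helper19.J2U3.PData
import Cfsg.Agent.Helper19.U33P.Tab

/-!
# The two generators of the point stabiliser of `J₂` on 100 points satisfy the presentation of `U₃(3)`
-/

set_option autoImplicit false
set_option linter.all false
set_option maxRecDepth 100000

namespace Cfsg.Agent.Helper19.J2U3

open Cfsg.Agent.Helper22.PermPack Cfsg.Agent.Helper19.J2G24
open Cfsg.Agent.Helper19.TCS Cfsg.Agent.Helper19.Schur

/-- the table of a letter (`0 ↦ u`, `1 ↦ u⁻¹`, `2 ↦ v`, `3 ↦ v⁻¹`) -/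
def LTs (l : ℕ) : ℕ :=
  match l with
  | 0 => sa0
  | 1 => sa0i
  | 2 => sa1
  | 3 => sa1i
  | _ => idT

/-- the function of a word in the letters, in the convention of `prodw` -/
def lookWs : List ℕ → ℕ → ℕ
  | [], i => i
  | l :: w, i => lookWs w (slot 9 (LTs l) i)

def chkGood3 : Bool := [sa0i, sa1i].all fun y => goodB 416 9 y

theorem chkGood3_true : chkGood3 = true := by decide +kernel

/-- the inverse tables, and `sa0` is not the identity -/
def chkInv3 : Bool := tabB idT [sa0, sa0i] && tabB idT [sa1, sa1i] && !(tabB idT [sa0])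

theorem chkInv3_true : chkInv3 = true := by decide +kernel

/-- the relators of the presentation of `U₃(3)` hold -/
def chkRels3 : Bool := Cfsg.Agent.Helper19.U33P.rels.all fun w =>
  (w.all fun l => Nat.blt l 4) && allN 416 fun i => Nat.beq (lookWs w i) i

theorem chkRels3_true : chkRels3 = true := by decide +kernel

theorem sa0_good : Good 416 9 sa0 := good2 _ (by simp)
theorem sa1_good : Good 416 9 sa1 := good2 _ (by simp)
theorem sa0i_good : Good 416 9 sa0i :=
  good_of_goodB (List.all_eq_true.mp chkGood3_true sa0i (by simp))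
theorem sa1i_good : Good 416 9 sa1i :=
  good_of_goodB (List.all_eq_true.mp chkGood3_true sa1i (by simp))

/-- the two generators -/
noncomputable def pU : Pm 416 := P 416 9 sa0
noncomputable def pV : Pm 416 := P 416 9 sa1

theorem chkInv3_spec : (∀ i < 416, slot 9 sa0 (slot 9 sa0i i) = i) ∧
    (∀ i < 416, slot 9 sa1 (slot 9 sa1i i) = i) ∧ ¬ ∀ i < 416, slot 9 sa0 i = i := by
  have h := chkInv3_true
  unfold chkInv3 at h
  rw [Bool.and_eq_true, Bool.and_eq_true, Bool.not_eq_true'] at h
  obtain ⟨⟨h1, h2⟩, h3⟩ := h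
  refine ⟨fun i hi => ?_, fun i hi => ?_, fun hall => ?_⟩
  · have := tabB_spec h1 i hi
    rw [idT_look i hi] at this
    exact this.symm
  · have := tabB_spec h2 i hi
    rw [idT_look i hi] at this
    exact this.symm
  · have h4 : tabB idT [sa0] = true := by
      unfold tabB
      rw [withNat_eq, withList_eq]
      apply allN_of_forall
      intro i hi
      rw [beq_iff, idT_look i hi]
      exact (hall i hi).symm
    rw [h4] at h3
    exact absurd h3 (by decide)

theorem pUi_eq : P 416 9 sa0i = pU⁻¹ := P_inv_of sa0_good sa0i_good chkInv3_spec.1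
theorem pVi_eq : P 416 9 sa1i = pV⁻¹ := P_inv_of sa1_good sa1i_good chkInv3_spec.2.1

theorem pU_ne_one : pU ≠ 1 := by
  intro h
  apply chkInv3_spec.2.2
  intro i hi
  have h1 : Rep (slot 9 sa0) pU := rep_P sa0_good
  rw [h] at h1
  exact (h1 ⟨i, hi⟩).symm

theorem rep_LTs (l : ℕ) : Rep (slot 9 (LTs l)) (gc2 pU pV l) := by
  match l with
  | 0 => exact rep_P sa0_good
  | 1 =>
    show Rep (slot 9 sa0i) (pU⁻¹)
    rw [← pUi_eq]
    exact rep_P sa0i_good
  | 2 => exact rep_P sa1_good
  | 3 =>
    show Rep (slot 9 sa1i) (pV⁻¹)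
    rw [← pVi_eq]
    exact rep_P sa1i_good
  | (l + 4) =>
    show Rep (slot 9 idT) (1 : Pm 416)
    exact rep_congr rep_one idT_look

theorem rep_lookWs : ∀ w : List ℕ, Rep (lookWs w) (prodw (gc2 pU pV) w)
  | [] => rep_one
  | l :: w => rep_congr (rep_mul (rep_lookWs w) (rep_LTs l)) (fun _ _ => rfl)

theorem rels_UV : ∀ w ∈ Cfsg.Agent.Helper19.U33P.rels, prodw (gc2 pU pV) w = 1 := by
  intro w hw
  have h := List.all_eq_true.mp chkRels3_true w hw
  rw [Bool.and_eq_true] at h
  apply rep_unique (rep_lookWs w)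
  apply rep_congr rep_one
  intro i hi
  exact beq_iff.mp (allN_spec h.2 i hi)

theorem pU_mem : pU ∈ Subgroup.closure ({pA, pB} : Set (Pm 416)) :=
  Grp_sa_le (P_mem_Grp (by simp))

theorem pV_mem : pV ∈ Subgroup.closure ({pA, pB} : Set (Pm 416)) :=
  Grp_sa_le (P_mem_Grp (by simp))

theorem pU_fix : pU p1 = p1 := Grp_sa_fix pU (P_mem_Grp (by simp))

theorem pV_fix : pV p1 = p1 := Grp_sa_fix pV (P_mem_Grp (by simp))

/-- the labels of the suborbits are invariant under the two generators -/
def chkLab3 : Bool :=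
  allN 416 fun i => Nat.beq (slot 9 c2a_lab (slot 9 sa0 i)) (slot 9 c2a_lab i) &&
    Nat.beq (slot 9 c2a_lab (slot 9 sa1 i)) (slot 9 c2a_lab i)

theorem chkLab3_true : chkLab3 = true := by decide +kernel

theorem lab2a_UV (i : Fin 416) : lab2a (pU i) = lab2a i ∧ lab2a (pV i) = lab2a i := by
  have hi := allN_spec chkLab3_true i.1 i.2
  simp only [Bool.and_eq_true, beq_iff] at hi
  have eU : (pU i).1 = slot 9 sa0 i.1 := rep_P sa0_good i
  have eV : (pV i).1 = slot 9 sa1 i.1 := rep_P sa1_good i
  unfold lab2a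
  rw [eU, eV]
  exact hi

theorem closure_lab2a : ∀ g ∈ Subgroup.closure ({pU, pV} : Set (Pm 416)), ∀ i,
    lab2a (g i) = lab2a i := by
  intro g hg
  induction hg using Subgroup.closure_induction with
  | mem x hx =>
    intro i
    simp only [Set.mem_insert_iff, Set.mem_singleton_iff] at hx
    rcases hx with rfl | rfl
    · exact (lab2a_UV i).1
    · exact (lab2a_UV i).2
  | one => intro i; rfl
  | mul x y _ _ hx hy =>
    intro i
    show lab2a (x (y i)) = lab2a i
    rw [hx, hy]
  | inv x _ hx =>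
    intro i
    have := hx (x⁻¹ i)
    have e : x (x⁻¹ i) = i := by
      rw [← Equiv.Perm.mul_apply, mul_inv_cancel, Equiv.Perm.one_apply]
    rw [e] at this
    exact this.symm

end Cfsg.Agent.Helper19.J2U3
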