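import Mathlib
import Cfsg.Agent.Helper13.G2UA
import Cfsg.Agent.Helper2.SU.Simple
import Cfsg.Agent.Helper19.U33P.Tab
import Cfsg.Agent.Helper19.Schur.Basic

/-!
# Generators of `SU₃(3)` satisfying the presentation

Over the computable model of the field with nine elements we give two unitary matrices of
determinant one satisfying the relators `U33P.rels`; the generators of the verified enumeration of
`SU₃(3)` are words in them, so they generate.
-/

set_option autoImplicit false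
set_option linter.all false
set_option maxRecDepth 100000

namespace Cfsg.Agent.Helper19.J2U3

open Cfsg.Agent.Helper19.TCS Cfsg.Agent.Helper19.Schur
open Cfsg.Agent.Helper13.SU33Spec Cfsg.Agent.Helper13.G2UA Cfsg.Agent.Helper13.G2U
  Cfsg.Agent.Helper13.G2UD Cfsg.Agent.Helper13.U42 Matrix

def mX : M9 := !![⟨2, 0⟩, ⟨1, 1⟩, ⟨0, 1⟩; ⟨1, 1⟩, ⟨2, 0⟩, ⟨0, 2⟩; ⟨1, 0⟩, ⟨2, 0⟩, ⟨1, 2⟩]
def mXi : M9 := !![⟨2, 0⟩, ⟨1, 2⟩, ⟨1, 0⟩; ⟨1, 2⟩, ⟨2, 0⟩, ⟨2, 0⟩; ⟨0, 2⟩, ⟨0, 1⟩, ⟨1, 1⟩]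
def mY : M9 := !![⟨2, 0⟩, ⟨1, 0⟩, ⟨2, 2⟩; ⟨2, 2⟩, ⟨2, 2⟩, ⟨0, 0⟩; ⟨0, 2⟩, ⟨0, 1⟩, ⟨2, 1⟩]
def mYi : M9 := !![⟨2, 0⟩, ⟨2, 1⟩, ⟨0, 1⟩; ⟨1, 0⟩, ⟨2, 1⟩, ⟨0, 2⟩; ⟨2, 1⟩, ⟨0, 0⟩, ⟨2, 2⟩]

/-- the matrix of a letter -/
def mL (l : ℕ) : M9 :=
  match l with
  | 0 => mX
  | 1 => mXi
  | 2 => mY
  | 3 => mYi
  | _ => 1

/-- the matrix of a word -/
def mW : List ℕ → M9
  | [] => 1
  | l :: w => mW w * mL l

theorem mX_det : mX.det = 1 := by rw [Matrix.det_fin_three]; decide +kernel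
theorem mXi_det : mXi.det = 1 := by rw [Matrix.det_fin_three]; decide +kernel
theorem mY_det : mY.det = 1 := by rw [Matrix.det_fin_three]; decide +kernel
theorem mYi_det : mYi.det = 1 := by rw [Matrix.det_fin_three]; decide +kernel
theorem mX_U : IsU mX := by decide +kernel
theorem mXi_U : IsU mXi := by decide +kernel
theorem mY_U : IsU mY := by decide +kernel
theorem mYi_U : IsU mYi := by decide +kernel
theorem mX_inv : mX * mXi = 1 := by decide +kernel
theorem mY_inv : mY * mYi = 1 := by decide +kernel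
theorem mX_ne : mX ≠ 1 := by decide +kernel

theorem rels_mat : ∀ w ∈ U33P.rels, mW w = 1 := by decide +kernel

theorem wA_mat : mW [1, 2, 0, 2, 0, 2] = dec9 cA9 := by decide +kernel
theorem wB_mat : mW [0, 0, 3, 0, 2, 1, 3, 1, 3] = dec9 cB9 := by decide +kernel

section K

variable {K : Type*} [Field K] [Fintype K]

/-- the underlying matrix of an element of the special unitary group -/
def cm (g : Cfsg.SU 3 K 3) : Matrix (Fin 3) (Fin 3) K :=
  ((g : SpecialLinearGroup (Fin 3) K) : Matrix (Fin 3) (Fin 3) K)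

theorem cm_mul (g h : Cfsg.SU 3 K 3) : cm (g * h) = cm g * cm h := rfl

theorem cm_one : cm (1 : Cfsg.SU 3 K 3) = 1 := rfl

theorem cm_inj {g h : Cfsg.SU 3 K 3} (e : cm g = cm h) : g = h :=
  Subtype.ext (Subtype.ext e)

variable (hK : Fintype.card K = 3 ^ 2) (φ : F9 →+* K)

/-- the two generators -/
noncomputable def gx : Cfsg.SU 3 K 3 := mkSU hK φ mX mX_det mX_U
noncomputable def gy : Cfsg.SU 3 K 3 := mkSU hK φ mY mY_det mY_U

theorem cm_gx : cm (gx hK φ) = φ.mapMatrix mX := rfl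
theorem cm_gy : cm (gy hK φ) = φ.mapMatrix mY := rfl

theorem gx_inv : (gx hK φ)⁻¹ = mkSU hK φ mXi mXi_det mXi_U := by
  apply inv_eq_of_mul_eq_one_right
  apply cm_inj
  rw [cm_mul, cm_one]
  show φ.mapMatrix mX * φ.mapMatrix mXi = 1
  rw [← map_mul, mX_inv, map_one]

theorem gy_inv : (gy hK φ)⁻¹ = mkSU hK φ mYi mYi_det mYi_U := by
  apply inv_eq_of_mul_eq_one_right
  apply cm_inj
  rw [cm_mul, cm_one]
  show φ.mapMatrix mY * φ.mapMatrix mYi = 1
  rw [← map_mul, mY_inv, map_one]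

theorem cm_gc2 (l : ℕ) : cm (gc2 (gx hK φ) (gy hK φ) l) = φ.mapMatrix (mL l) := by
  match l with
  | 0 => rfl
  | 1 =>
    show cm ((gx hK φ)⁻¹) = _
    rw [gx_inv]
    rfl
  | 2 => rfl
  | 3 =>
    show cm ((gy hK φ)⁻¹) = _
    rw [gy_inv]
    rfl
  | (l + 4) =>
    show cm (1 : Cfsg.SU 3 K 3) = φ.mapMatrix 1
    rw [map_one]
    rfl

theorem cm_prodw : ∀ w : List ℕ, cm (prodw (gc2 (gx hK φ) (gy hK φ)) w) = φ.mapMatrix (mW w)
  | [] => by
    show cm (1 : Cfsg.SU 3 K 3) = φ.mapMatrix 1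
    rw [map_one]
    rfl
  | l :: w => by
    show cm (prodw (gc2 (gx hK φ) (gy hK φ)) w * gc2 (gx hK φ) (gy hK φ) l) =
      φ.mapMatrix (mW w * mL l)
    rw [cm_mul, cm_prodw w, cm_gc2, map_mul]

theorem rels_SU : ∀ w ∈ U33P.rels, prodw (gc2 (gx hK φ) (gy hK φ)) w = 1 := by
  intro w hw
  apply cm_inj
  rw [cm_prodw, rels_mat w hw, map_one]
  rfl

theorem prodw_mem {Γ : Type*} [Group Γ] (a b : Γ) :
    ∀ w : List ℕ, prodw (gc2 a b) w ∈ Subgroup.closure ({a, b} : Set Γ)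
  | [] => one_mem _
  | l :: w => by
    show prodw (gc2 a b) w * gc2 a b l ∈ _
    apply mul_mem (prodw_mem a b w)
    have ha : a ∈ Subgroup.closure ({a, b} : Set Γ) := Subgroup.subset_closure (by simp)
    have hb : b ∈ Subgroup.closure ({a, b} : Set Γ) := Subgroup.subset_closure (by simp)
    match l with
    | 0 => exact ha
    | 1 => exact inv_mem ha
    | 2 => exact hb
    | 3 => exact inv_mem hb
    | (l + 4) => exact one_mem _

theorem gx_ne_one (hφ : Function.Injective φ) : gx hK φ ≠ 1 := by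
  intro h
  have h1 : cm (gx hK φ) = 1 := by rw [h]; rfl
  rw [cm_gx] at h1
  apply mX_ne
  have hinj : Function.Injective (φ.mapMatrix : M9 →+* Matrix (Fin 3) (Fin 3) K) := by
    intro A B hAB
    apply Matrix.ext
    intro i j
    have := congrFun (congrFun hAB i) j
    simp only [RingHom.mapMatrix_apply, Matrix.map_apply] at this
    exact hφ this
  apply hinj
  rw [h1, map_one]

/-- the two matrices generate the special unitary group -/
theorem closure_gxy (hφ : Function.Injective φ) :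
    Subgroup.closure ({gx hK φ, gy hK φ} : Set (Cfsg.SU 3 K 3)) = ⊤ := by
  classical
  set C : Subgroup (Cfsg.SU 3 K 3) := Subgroup.closure {gx hK φ, gy hK φ} with hC
  have hinj : Function.Injective (φ.mapMatrix : M9 →+* Matrix (Fin 3) (Fin 3) K) := by
    intro A B hAB
    apply Matrix.ext
    intro i j
    have := congrFun (congrFun hAB i) j
    simp only [RingHom.mapMatrix_apply, Matrix.map_apply] at this
    exact hφ this
  have hA : mkSU hK φ (dec9 cA9) detA unitA ∈ C := by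
    have : mkSU hK φ (dec9 cA9) detA unitA =
        prodw (gc2 (gx hK φ) (gy hK φ)) [1, 2, 0, 2, 0, 2] := by
      apply cm_inj
      rw [cm_prodw, wA_mat]
      rfl
    rw [this]
    exact prodw_mem _ _ _
  have hB : mkSU hK φ (dec9 cB9) detB unitB ∈ C := by
    have : mkSU hK φ (dec9 cB9) detB unitB =
        prodw (gc2 (gx hK φ) (gy hK φ)) [0, 0, 3, 0, 2, 1, 3, 1, 3] := by
      apply cm_inj
      rw [cm_prodw, wB_mat]
      rfl
    rw [this]
    exact prodw_mem _ _ _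
  have hall : ∀ k < NN, ∃ g ∈ C, cm g = φ.mapMatrix (e1 k) := by
    refine tree_ind NN gS0 gS1 gPG htree (fun k => ∃ g ∈ C, cm g = φ.mapMatrix (e1 k)) ?_ ?_
    · exact ⟨1, one_mem _, by rw [e1_zero, map_one]; rfl⟩
    · intro k hk ih
      obtain ⟨g, hg, hgk⟩ := ih
      obtain ⟨h1, h2⟩ := e1_step hk
      refine ⟨⟨g * mkSU hK φ (dec9 cA9) detA unitA, mul_mem hg hA, ?_⟩,
        ⟨g * mkSU hK φ (dec9 cB9) detB unitB, mul_mem hg hB, ?_⟩⟩
      · rw [cm_mul, hgk, h1, map_mul]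
        rfl
      · rw [cm_mul, hgk, h2, map_mul]
        rfl
  -- an injection of `Fin NN` into `C`
  let f : Fin NN → ↥C := fun k => ⟨(hall k.val k.2).choose, (hall k.val k.2).choose_spec.1⟩
  have hf : ∀ k : Fin NN, cm (f k : Cfsg.SU 3 K 3) = φ.mapMatrix (e1 k.val) :=
    fun k => (hall k.val k.2).choose_spec.2
  have hfinj : Function.Injective f := by
    intro i j hij
    have h1 : φ.mapMatrix (e1 i.val) = φ.mapMatrix (e1 j.val) := by rw [← hf i, ← hf j, hij]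
    exact Fin.ext (e1_inj i.val i.2 j.val j.2 (hinj h1))
  have hcard : NN ≤ Nat.card ↥C := by
    have := Nat.card_le_card_of_injective f hfinj
    rwa [Nat.card_fin] at this
  apply Subgroup.eq_top_of_le_card
  rw [card_SU hK]
  exact hcard

end K

end Cfsg.Agent.Helper19.J2U3
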