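import Cfsg.Agent.Helper19.J2U3.Pres
import Cfsg.Agent.Helper19.J2U3.SU
import Cfsg.Agent.Helper19.J2U3.PCert

/-!
# `U₃(3) < J₂` of index 100, with suborbits of lengths 36 and 63

The Hall–Janko group acts on 416 points (the cosets of `J₂` in `G₂(4)`) with an orbit of length
100.  The stabiliser of a point of this orbit has order 6048, it contains two permutations which
satisfy a presentation of `U₃(3)` and generate a group with suborbits of lengths 1, 36, 63; by the
presentation bound they generate a copy of the simple group `SU₃(3) = PSU₃(3)`, which is therefore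
the whole stabiliser.
-/

set_option autoImplicit false
set_option linter.all false
set_option maxRecDepth 100000

namespace Cfsg.Agent.Helper19.J2U3

open Cfsg.Agent.Helper22.PermPack Cfsg.Agent.Helper19.J2G24
open Cfsg.Agent.Helper19.TCS Cfsg.Agent.Helper19.Schur MulAction
open Cfsg.Agent.Helper13.SU33Spec Cfsg.Agent.Helper13.G2UA

/-- the orbits of a point stabiliser on the cosets and on the points -/
theorem ncard_orbit_quotient {G X : Type*} [Group G] [MulAction G X] (x : X) (g : G) :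
    (orbit ↥(stabilizer G x) (g : G ⧸ stabilizer G x)).ncard =
      (orbit ↥(stabilizer G x) (g • x)).ncard := by
  have himg : ofQuotientStabilizer G x '' orbit ↥(stabilizer G x) (g : G ⧸ stabilizer G x) =
      orbit ↥(stabilizer G x) (g • x) := by
    ext y
    constructor
    · rintro ⟨c, ⟨h, rfl⟩, rfl⟩
      refine ⟨h, ?_⟩
      show (h : G) • (g • x) = ofQuotientStabilizer G x ((h : G) • (g : G ⧸ stabilizer G x))
      rw [ofQuotientStabilizer_smul, ofQuotientStabilizer_mk]
    · rintro ⟨h, rfl⟩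
      refine ⟨h • (g : G ⧸ stabilizer G x), ⟨h, rfl⟩, ?_⟩
      show ofQuotientStabilizer G x ((h : G) • (g : G ⧸ stabilizer G x)) = (h : G) • (g • x)
      rw [ofQuotientStabilizer_smul, ofQuotientStabilizer_mk]
  rw [← himg, Set.ncard_image_of_injective _ (injective_ofQuotientStabilizer G x)]

instance fact3 : Fact (Nat.Prime 3) := ⟨by norm_num⟩

theorem main : ∃ H : Subgroup Cfsg.Spor.J2, H.index = 100 ∧
    (∃ (F : Type) (_ : Field F) (_ : Fintype F), Fintype.card F = 9 ∧
      Nonempty (↥H ≃* Cfsg.PSU 3 F 3)) ∧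
    ∃ c₁ c₂ : Cfsg.Spor.J2 ⧸ H, (MulAction.orbit ↥H c₁).ncard = 36 ∧
      (MulAction.orbit ↥H c₂).ncard = 63 := by
  classical
  -- the isomorphism of the group of the two permutations with `J₂`
  obtain ⟨e⟩ : Cfsg.Spor.IsoJ2 ↥(Subgroup.closure ({pA, pB} : Set (Pm 416))) :=
    isoJ2_closure (MonoidHom.id (Pm 416)) Function.injective_id (a := pA) (b := pB) rfl rfl
  let ρ : Cfsg.Spor.J2 →* Pm 416 :=
    (Subgroup.closure ({pA, pB} : Set (Pm 416))).subtype.comp e.symm.toMonoidHom
  have hρinj : Function.Injective ρ :=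
    (Subgroup.subtype_injective _).comp e.symm.injective
  have hρmem : ∀ g, ρ g ∈ Subgroup.closure ({pA, pB} : Set (Pm 416)) := fun g => (e.symm g).2
  have hρlift : ∀ g ∈ Subgroup.closure ({pA, pB} : Set (Pm 416)), ∃ h, ρ h = g := by
    intro g hg
    refine ⟨e ⟨g, hg⟩, ?_⟩
    show ((e.symm (e ⟨g, hg⟩) : ↥(Subgroup.closure ({pA, pB} : Set (Pm 416)))) : Pm 416) = g
    rw [MulEquiv.symm_apply_apply]
  letI : MulAction Cfsg.Spor.J2 (Fin 416) := MulAction.compHom (Fin 416) ρ
  have hact : ∀ (g : Cfsg.Spor.J2) (i : Fin 416), g • i = ρ g i := fun _ _ => rfl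
  -- the orbit of the base point
  have horb : orbit Cfsg.Spor.J2 p1 = {x | lab1 x = 1} := by
    ext x
    constructor
    · rintro ⟨g, rfl⟩
      show lab1 (g • p1) = 1
      rw [hact, closure_lab1 _ (hρmem g), lab1_p1]
    · intro hx
      obtain ⟨g, hg, hgx⟩ := conn1 p1 x (by rw [lab1_p1]; exact hx.symm)
      obtain ⟨h, rfl⟩ := hρlift g hg
      exact ⟨h, hgx⟩
  have hidx : (stabilizer Cfsg.Spor.J2 p1).index = 100 := by
    rw [index_stabilizer, horb]
    exact ncard_lab1 1 (by norm_num)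
  have hcardH : Nat.card ↥(stabilizer Cfsg.Spor.J2 p1) = 6048 := by
    have h2 := Subgroup.card_mul_index (stabilizer Cfsg.Spor.J2 p1)
    rw [hidx, Cfsg.Agent.Helper22.Ico.card_J2] at h2
    omega
  -- the field with nine elements and the special unitary group
  letI : Fintype (GaloisField 3 2) := Fintype.ofFinite _
  have hF : Fintype.card (GaloisField 3 2) = 9 := by
    rw [← Nat.card_eq_fintype_card, GaloisField.card 3 2 (by norm_num)]
    norm_num
  have hF' : Fintype.card (GaloisField 3 2) = 3 ^ 2 := by rw [hF]; norm_num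
  obtain ⟨φ, hφ⟩ := exists_phi hF
  haveI : IsSimpleGroup (Cfsg.PSU 3 (GaloisField 3 2) 3) :=
    Cfsg.Agent.Helper2.SUGen.PSU_isSimpleGroup hF' 3 le_rfl (by norm_num)
  haveI : IsSimpleGroup ↥(Cfsg.SU 3 (GaloisField 3 2) 3) := MulEquiv.isSimpleGroup (eSU hF)
  obtain ⟨eK⟩ := exists_iso_of_rels (gx hF' φ) (gy hF' φ) (closure_gxy hF' φ hφ.injective)
    U33P.rels (rels_SU hF' φ)
    (fun Δ _ a b h1 h2 => by
      rw [card_SU hF']
      exact hT Δ a b h1 h2)
    pU pV rels_UV (Or.inl pU_ne_one)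
  have hcardK : Nat.card ↥(Subgroup.closure ({pU, pV} : Set (Pm 416))) = 6048 := by
    rw [Nat.card_congr eK.toEquiv, card_SU hF']
  -- the stabiliser is the group generated by the two permutations
  let ρH : ↥(stabilizer Cfsg.Spor.J2 p1) →* Pm 416 := ρ.comp (stabilizer Cfsg.Spor.J2 p1).subtype
  have hρHinj : Function.Injective ρH := hρinj.comp (Subgroup.subtype_injective _)
  have hKle : Subgroup.closure ({pU, pV} : Set (Pm 416)) ≤ ρH.range := by
    rw [Subgroup.closure_le]
    rintro g hg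
    simp only [Set.mem_insert_iff, Set.mem_singleton_iff] at hg
    rcases hg with rfl | rfl
    · obtain ⟨h, hh⟩ := hρlift pU pU_mem
      have hmem : h ∈ stabilizer Cfsg.Spor.J2 p1 := by
        rw [mem_stabilizer_iff, hact, hh]
        exact pU_fix
      exact ⟨⟨h, hmem⟩, hh⟩
    · obtain ⟨h, hh⟩ := hρlift pV pV_mem
      have hmem : h ∈ stabilizer Cfsg.Spor.J2 p1 := by
        rw [mem_stabilizer_iff, hact, hh]
        exact pV_fix
      exact ⟨⟨h, hmem⟩, hh⟩
  have hcardR : Nat.card ↥ρH.range = 6048 := by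
    rw [← Nat.card_congr (MonoidHom.ofInjective hρHinj).toEquiv, hcardH]
  have hrange : Subgroup.closure ({pU, pV} : Set (Pm 416)) = ρH.range :=
    Subgroup.eq_of_le_of_card_ge hKle (by rw [hcardK, hcardR])
  have eH : ↥(stabilizer Cfsg.Spor.J2 p1) ≃* Cfsg.PSU 3 (GaloisField 3 2) 3 :=
    ((MonoidHom.ofInjective hρHinj).trans (MulEquiv.subgroupCongr hrange.symm)).trans
      (eK.trans (eSU hF))
  -- the suborbits
  have hsub : ∀ x1 : Fin 416, orbit ↥(stabilizer Cfsg.Spor.J2 p1) x1 = {x | lab2a x = lab2a x1} := by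
    intro x1
    ext x
    constructor
    · rintro ⟨h, rfl⟩
      have hmem : ρ h.1 ∈ Subgroup.closure ({pU, pV} : Set (Pm 416)) := by
        rw [hrange]
        exact ⟨h, rfl⟩
      show lab2a ((h : Cfsg.Spor.J2) • x1) = lab2a x1
      rw [hact]
      exact closure_lab2a _ hmem x1
    · intro hx
      obtain ⟨g, hg, hgp, hgx⟩ := conn2a x1 x (Eq.symm hx)
      obtain ⟨h, rfl⟩ := hρlift g hg
      exact ⟨⟨h, mem_stabilizer_iff.mpr hgp⟩, hgx⟩
  have hpt : ∀ j, j = 1 ∨ j = 2 → ∃ c : Cfsg.Spor.J2 ⧸ stabilizer Cfsg.Spor.J2 p1,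
      (orbit ↥(stabilizer Cfsg.Spor.J2 p1) c).ncard = [1, 36, 63].getD j 0 := by
    intro j hj
    have hj3 : j < 3 := by omega
    have hn := ncard_lab2a j hj3
    have hne : ({x : Fin 416 | lab2a x = j}).Nonempty := by
      apply Set.nonempty_of_ncard_ne_zero
      rw [hn]
      rcases hj with rfl | rfl <;> decide
    obtain ⟨x1, hx1⟩ := hne
    have hx1' : lab2a x1 = j := hx1
    have hl1 : lab1 x1 = 1 := (lab2_spec x1).1.mp (by rw [hx1']; exact hj3)
    have hx1o : x1 ∈ orbit Cfsg.Spor.J2 p1 := by rw [horb]; exact hl1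
    obtain ⟨g1, hg1⟩ := hx1o
    refine ⟨(g1 : Cfsg.Spor.J2 ⧸ stabilizer Cfsg.Spor.J2 p1), ?_⟩
    have hg1' : g1 • p1 = x1 := hg1
    rw [ncard_orbit_quotient, hg1', hsub x1, hx1', hn]
  obtain ⟨c1, hc1⟩ := hpt 1 (Or.inl rfl)
  obtain ⟨c2, hc2⟩ := hpt 2 (Or.inr rfl)
  exact ⟨stabilizer Cfsg.Spor.J2 p1, hidx, ⟨GaloisField 3 2, inferInstance, inferInstance, hF, ⟨eH⟩⟩,
    c1, c2, hc1, hc2⟩

end Cfsg.Agent.Helper19.J2U3
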