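import Mathlib
import Cfsg.Agent.Helper19.U33P.Facts
import Cfsg.Agent.Helper19.Schur.Basic

/-!
# A presentation bound for `U₃(3)`

Any group generated by two elements `a, b` satisfying the seven relators `U33P.rels` (they present
`U₃(3)` on a generator of order four and a generator of order three) has order at most `6048`: a
coset enumeration over `⟨a⟩` (index `1512`, `a ^ 4 = 1`) checked by the reflective
Todd–Coxeter checker.
-/

set_option autoImplicit false
set_option linter.all false
set_option maxRecDepth 100000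

namespace Cfsg.Agent.Helper19.J2U3

open Cfsg.Agent.Helper19.TCS Cfsg.Agent.Helper19.Schur

universe u

theorem invF_eq : ∀ l, l < 4 → U33P.invF l = inv4 l := by
  intro l hl
  interval_cases l <;> rfl

theorem hT (Δ : Type u) [Group Δ] (a b : Δ)
    (hgen : Subgroup.closure {a, b} = (⊤ : Subgroup Δ))
    (hrel : ∀ w ∈ U33P.rels, prodw (gc2 a b) w = 1) : Finite Δ ∧ Nat.card Δ ≤ 6048 := by
  have ha : a ^ 4 = 1 := by
    have h1 := hrel [0, 0, 0, 0] (by decide)
    simpa [prodw, gc2, pow_succ, mul_assoc] using h1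
  have hinv : ∀ l, l < 4 → gc2 a b (U33P.invF l) = (gc2 a b l)⁻¹ := by
    intro l hl
    rw [invF_eq l hl]
    exact gc2_inv a b l hl
  obtain ⟨S, hcl⟩ := U33P.closed (Subgroup.zpowers a) (gc2 a b) hinv hrel (by
    intro w hw
    simp only [U33P.subs, List.mem_cons, List.not_mem_nil, or_false] at hw
    subst hw
    show prodw (gc2 a b) [0] ∈ Subgroup.zpowers a
    simp only [prodw, gc2, one_mul]
    exact Subgroup.mem_zpowers a)
  have hgen' : Subgroup.closure {g : Δ | ∃ l, l < 4 ∧ g = gc2 a b l} = ⊤ := by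
    rw [closure_gc2, hgen]
  have hcz : Nat.card (Subgroup.zpowers a) ≤ 4 := by
    rw [Nat.card_zpowers]
    exact orderOf_le_of_pow_eq_one (by norm_num) ha
  have hpos : 0 < Nat.card (Subgroup.zpowers a) := by
    rw [Nat.card_zpowers]
    exact orderOf_pos_iff.mpr (isOfFinOrder_iff_pow_eq_one.mpr ⟨4, by norm_num, ha⟩)
  have h1 := card_le S hgen' hcl
  have hfinq : Finite (Δ ⧸ Subgroup.zpowers a) := finite_quot S hgen' hcl
  have hidx : (Subgroup.zpowers a).index ≠ 0 := by
    rw [Subgroup.index_eq_card]; exact Nat.card_pos.ne'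
  have hcard : Nat.card Δ ≠ 0 := by
    rw [← Subgroup.card_mul_index (Subgroup.zpowers a)]
    exact Nat.mul_ne_zero hpos.ne' hidx
  refine ⟨Nat.finite_of_card_ne_zero hcard, ?_⟩
  calc Nat.card Δ ≤ 1512 * Nat.card (Subgroup.zpowers a) := h1
    _ ≤ 1512 * 4 := Nat.mul_le_mul_left _ hcz
    _ = 6048 := by norm_num

end Cfsg.Agent.Helper19.J2U3
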